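import Cfsg.Agent.H10.Xsp2
import Cfsg.Agent.H6.ZStar

/-! An involution centralizer `2^{1+4}.A₅` in a simple group is 2-constrained. -/

set_option autoImplicit false

namespace Cfsg.Agent.J3X

open Subgroup Cfsg.Agent.H10
open scoped commutatorElement

theorem a5_comm : ∀ a b : alternatingGroup (Fin 5), ⁅a, b⁆ * ⁅a, b⁆ = 1 → ⁅a, b⁆ * a = a * ⁅a, b⁆ →
    ⁅a, b⁆ * b = b * ⁅a, b⁆ → ⁅a, b⁆ = 1 := by decide +kernel

theorem a5_cen : ∀ a : alternatingGroup (Fin 5), (∀ b, b * a = a * b) → a = 1 := by decide +kernel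

theorem exists_comm_cent {G : Type*} [Group G] {Q : Subgroup G} {z e : G} (h : XS Q z) (hc : Nat.card Q = 32)
    (he : e ∈ Q) : ∃ a ∈ Q, ∃ b ∈ Q, a * e = e * a ∧ b * e = e * b ∧ ⁅a, b⁆ = z := by
  classical
  by_cases ez : e ∈ zpowers z
  · obtain ⟨a, ha, b, hb, k⟩ := h.exists_comm
    exact ⟨a, ha, b, hb, h.comm_of_mem_z ez (h.cent a ha), h.comm_of_mem_z ez (h.cent b hb), k⟩
  by_contra! n
  have k : ∀ x ∈ Q, x * e = e * x → x ∈ [1, z, e⁻¹, z * e⁻¹] := fun x hx xe => by
    have := h.mem_of_cent_cent' he ez hx fun r hr re => commutatorElement_eq_one_iff_mul_comm.mp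
      ((h.mem_z.mp (h.comm_mem hr hx)).resolve_right (n r hr x hx re xe))
    simp only [h.mem_z, ← eq_mul_inv_iff_mul_eq, one_mul] at this
    rcases this with (a | a) | a | a <;> simp [a]
  obtain ⟨q, hq, qe⟩ := h.exists_ne_comm he ez
  have s : (Q : Set G) ⊆ ([1, z, e⁻¹, z * e⁻¹] ++ [1, z, e⁻¹, z * e⁻¹].map (· * q⁻¹)).toFinset := fun x hx => by
    rw [Finset.mem_coe, List.mem_toFinset, List.mem_append, List.mem_map]
    by_cases xe : x * e = e * x
    · exact .inl (k x hx xe)
    · exact .inr ⟨x * q, k _ (mul_mem hx hq) ((h.comm_mul_iff he hx hq).mpr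
        (iff_of_false (Ne.symm xe) qe.symm)).symm, mul_inv_cancel_right ..⟩
  have := (Set.ncard_le_ncard s).trans ((Set.ncard_coe_finset _).le.trans (List.toFinset_card_le _))
  rw [← Nat.card_coe_set_eq, SetLike.coe_sort_coe, hc] at this
  simp at this

theorem h2c {G : Type*} [Group G] [Finite G] [IsSimpleGroup G] {t : G} (ht : orderOf t = 2)
    (E : Subgroup (Subgroup.centralizer ({t} : Set G))) [E.Normal] (hE : Nat.card E = 32) (hX : IsExtraspecial 2 E)
    (e : Subgroup.centralizer ({t} : Set G) ⧸ E ≃* alternatingGroup (Fin 5)) :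
    Subgroup.centralizer (E : Set (Subgroup.centralizer ({t} : Set G))) ≤ E := by
  by_contra n
  haveI := Fact.mk Nat.prime_two
  let π := e.toMonoidHom.comp (QuotientGroup.mk' E)
  have sur : Function.Surjective π := e.surjective.comp (QuotientGroup.mk'_surjective E)
  have ker : ∀ x, π x = 1 ↔ x ∈ E := fun x => e.map_eq_one_iff.trans (QuotientGroup.eq_one_iff x)
  set L := centralizer (E : Set (centralizer ({t} : Set G)))
  have dec : ∀ c, ∃ l ∈ L, c * l⁻¹ ∈ E := fun c => by
    obtain ⟨l, hl, k⟩ := ((Normal.map inferInstance π sur : (L.map π).Normal).eq_bot_or_eq_top.resolve_left fun k =>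
      n fun l hl => (ker l).mp (mem_bot.mp (k ▸ mem_map_of_mem π hl))).ge (mem_top (π c))
    exact ⟨l, hl, (ker _).mp (by rw [map_mul, map_inv, k, mul_inv_cancel])⟩
  let τ : centralizer ({t} : Set G) := ⟨t, mem_centralizer_singleton_iff.mpr rfl⟩
  have cτ : ∀ c, c * τ = τ * c := fun c => Subtype.ext (mem_centralizer_singleton_iff.mp c.2)
  have t1 : t ≠ 1 := by rintro rfl; simp at ht
  have h : XS E τ := xs_of_isExtraspecial hX (fun k => t1 (congrArg Subtype.val k))
    ((ker τ).mp (a5_cen _ (sur.forall.mpr fun c => by rw [← map_mul, cτ, map_mul]))) fun q _ => cτ q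
  obtain ⟨g, e1, e2⟩ : ∃ g, Commute t (g * t * g⁻¹) ∧ g * t * g⁻¹ ≠ t := by
    by_contra! k
    have a1 := H6.mem_center_of_isolated (((inferInstance : (pPrimeCore 2 G).Normal).eq_bot_or_eq_top).resolve_right
      fun k => H1.not_dvd_card_pPrimeCore 2 G (by rw [k, card_top, ← ht]; exact orderOf_dvd_natCard t)) ht k
    have a2 := (inferInstance : (center G).Normal).eq_bot_or_eq_top.resolve_left fun k => t1 (mem_bot.mp (k ▸ a1))
    obtain ⟨a, -, b, -, k⟩ := h.exists_comm
    exact h.ne_one (k.symm.trans (commutatorElement_eq_one_iff_mul_comm.mpr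
      (Subtype.ext (mem_center_iff.mp (a2.ge (mem_top _)) _))))
  let x : centralizer ({t} : Set G) := ⟨g * t * g⁻¹, mem_centralizer_singleton_iff.mpr e1.symm⟩
  obtain ⟨l, hl, xl⟩ := dec x
  obtain ⟨a, ha, b, hb, ax, bx, ab⟩ := exists_comm_cent h hE xl
  have cx : ∀ a ∈ E, a * (x * l⁻¹) = x * l⁻¹ * a → g⁻¹ * a * g ∈ centralizer ({t} : Set G) := fun a ha k => by
    rw [mul_assoc x, ← inv_mem hl a ha, ← mul_assoc, ← mul_assoc, mul_left_inj] at k
    have k : (a : G) * (g * t * g⁻¹) = g * t * g⁻¹ * a := congrArg Subtype.val k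
    rw [mem_centralizer_singleton_iff]
    calc _ = g⁻¹ * (a * (g * t * g⁻¹)) * g := by group
      _ = _ := by rw [k]; group
  let a' : centralizer ({t} : Set G) := ⟨_, cx a ha ax⟩
  let b' : centralizer ({t} : Set G) := ⟨_, cx b hb bx⟩
  have s : (⁅a', b'⁆ : centralizer ({t} : Set G)) = g⁻¹ * t * g := by
    refine .trans ?_ (congrArg (fun y : centralizer ({t} : Set G) => g⁻¹ * y * g) ab)
    simp only [commutatorElement_def, coe_mul, coe_inv, a', b']; group
  have sc : ∀ c : centralizer ({t} : Set G), ∀ c' : centralizer ({t} : Set G), (c' : G) = g⁻¹ * c * g →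
      ⁅π a', π b'⁆ * π c' = π c' * ⁅π a', π b'⁆ := fun c c' k => by
    rw [← map_commutatorElement, ← map_mul, ← map_mul]
    refine congrArg π (Subtype.ext ?_)
    rw [coe_mul, coe_mul, s, k]
    calc _ = g⁻¹ * (t * c) * g := by group
      _ = _ := by rw [← mem_centralizer_singleton_iff.mp c.2]; group
  have s2 : ⁅π a', π b'⁆ * ⁅π a', π b'⁆ = 1 := by
    rw [← map_commutatorElement, ← map_mul, ← map_one π]
    refine congrArg π (Subtype.ext ?_)
    rw [coe_mul, s]
    calc _ = g⁻¹ * t ^ 2 * g := by rw [sq]; group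
      _ = _ := by rw [← ht, pow_orderOf_eq_one]; simp
  have sE : ⁅a', b'⁆ ∈ E := (ker _).mp (map_commutatorElement π _ _ ▸ a5_comm _ _ s2 (sc a a' rfl) (sc b b' rfl))
  obtain ⟨l1, h1, k1⟩ := dec a'
  obtain ⟨l2, h2, k2⟩ := dec b'
  have sL : ⁅a', b'⁆ ∈ L := by
    have m : ∀ c l, l ∈ L → QuotientGroup.mk' L c = QuotientGroup.mk' L (c * l⁻¹) := fun c l hl => by
      rw [map_mul, (QuotientGroup.eq_one_iff _).mpr (inv_mem hl) |> fun k => show QuotientGroup.mk' L l⁻¹ = 1 from k,
        mul_one]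
    refine (QuotientGroup.eq_one_iff _).mp (show QuotientGroup.mk' L _ = 1 from ?_)
    rw [map_commutatorElement, m a' l1 h1, m b' l2 h2, ← map_commutatorElement]
    exact (QuotientGroup.eq_one_iff _).mpr (h.zpowers_le_center (h.comm_mem k1 k2)).2
  have := congrArg Subtype.val (h.eq_of_cent sE sL fun k => t1 (by
    have := s.symm.trans (congrArg Subtype.val k)
    simpa [mul_assoc] using congrArg (fun y => g * y * g⁻¹) this))
  have k : g⁻¹ * t * g = t := s.symm.trans this
  exact e2 (by simpa [mul_assoc] using (congrArg (fun y => g * y * g⁻¹) k).symm)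

end Cfsg.Agent.J3X
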